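import Cfsg.Agent.Lib.Techniques.Complement.NormOperator
import Cfsg.Agent.S1983
import Cfsg.Agent.Lib.Fusion.GroupSystem
import Cfsg.Agent.Lib.Transfer.CentralHall

/-!
Normal `p`-complement criteria for normalizers of functors.
-/

namespace CfsgLib.Techniques.Complement

open Subgroup Cfsg CfsgLib.Techniques CfsgLib.Techniques.Functor
open scoped commutatorElement

universe u

variable {p : ℕ} [hp : Fact p.Prime]

/-- A normal subgroup of a Sylow subgroup containing its centralizer there and centralized by the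
`p'`-elements of its normalizer has a `p`-nilpotent normalizer. -/
theorem npc_normalizer {G : Type*} [Group G] [Finite G] (S : Sylow p G) (T : Subgroup G)
    (hTS : T ≤ (S : Subgroup G)) (hTn : (S : Subgroup G) ≤ normalizer (T : Set G))
    (hC : (S : Subgroup G) ⊓ centralizer (T : Set G) ≤ T)
    (hN : ∀ g ∈ normalizer (T : Set G), (orderOf g).Coprime p → g ∈ centralizer (T : Set G)) :
    HasNormalPComplement p ↥(normalizer (T : Set G)) := by
  set N := normalizer (T : Set G) with hNdef
  have hCN : centralizer (T : Set G) ≤ N := centralizer_le_normalizer _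
  set C := (centralizer (T : Set G)).subgroupOf N with hCdef
  haveI hCn : C.Normal := by
    constructor
    intro c hc g
    rw [hCdef, mem_subgroupOf, mem_centralizer_iff] at hc ⊢
    intro x hx
    have h1 := hc _ ((mem_normalizer_iff''.1 g.2 x).1 hx)
    simp only [Subgroup.coe_mul, Subgroup.coe_inv]
    calc x * ((g : G) * c * (g : G)⁻¹) = g * (((g : G)⁻¹ * x * g) * c) * (g : G)⁻¹ := by group
      _ = g * c * (g : G)⁻¹ * x := by rw [h1]; group
  -- the centralizer has a normal complement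
  let SN : Sylow p N := S.subtype hTn
  have hSN : (SN : Subgroup N) = (S : Subgroup G).subgroupOf N := Sylow.coe_subtype _ _
  have hSC : ¬ p ∣ ((SN : Subgroup N) ⊓ C).relIndex C :=
    CfsgLib.Fusion.not_dvd_relIndex_inf (N := (⊤ : Subgroup N)) SN.2 le_top
      (relIndex_sylow_not_dvd SN le_top) le_top (by rw [normalizer_eq_top])
  let SC : Sylow p C :=
    ((SN.2.to_le (inf_le_left : (SN : Subgroup N) ⊓ C ≤ _)).comap_subtype (K := C)).toSylow hSC
  have hnpcC : HasNormalPComplement p C := by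
    refine CfsgLib.Transfer.hasNormalPComplement_of_normalizer_le_centralizer SC fun x _ => ?_
    refine mem_centralizer_iff.2 fun z hz => Subtype.ext (Subtype.ext ?_)
    have hz' : (z : N) ∈ (SN : Subgroup N) ⊓ C := by
      have hz2 : z ∈ (SC : Subgroup C) := hz
      rw [show (SC : Subgroup C) = _ from IsPGroup.toSylow_coe _ _] at hz2
      exact hz2
    have hzT : ((z : N) : G) ∈ T := hC ⟨by
      have := hz'.1
      rw [hSN] at this
      exact this, hz'.2⟩
    exact mem_centralizer_iff.1 x.2 _ hzT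
  obtain ⟨D, hD, hDc, k, hk⟩ := CfsgLib.Transfer.hasNormalPComplement_iff.1 hnpcC
  haveI := hD
  haveI : D.Characteristic :=
    CfsgLib.Transfer.characteristic_of_coprime_index (hk ▸ hDc.pow_right k)
  obtain ⟨j, hj⟩ : ∃ j, C.index = p ^ j := by
    have hpg : IsPGroup p (N ⧸ C) := by
      intro q
      obtain ⟨x, rfl⟩ := QuotientGroup.mk'_surjective C q
      obtain ⟨i, r, hr, hx⟩ := Nat.exists_eq_pow_mul_and_not_dvd (orderOf_pos x).ne' p hp.out.one_lt.ne'
      refine ⟨i, ?_⟩
      rw [← map_pow]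
      refine (QuotientGroup.eq_one_iff _).2 (hN ((x ^ p ^ i : ↥N) : G) (x ^ p ^ i).2 ?_)
      rw [orderOf_coe]
      exact ((hp.out.coprime_iff_not_dvd).2 hr).symm.coprime_dvd_left
        (orderOf_dvd_of_pow_eq_one (by rw [← pow_mul, ← hx, pow_orderOf_eq_one]))
    obtain ⟨j, hj⟩ := IsPGroup.iff_card.1 hpg
    exact ⟨j, hj⟩
  refine CfsgLib.Transfer.hasNormalPComplement_of (N := D.map C.subtype)
    ConjAct.normal_of_characteristic_of_normal ?_ (k := k + j) ?_
  · rwa [card_map_of_injective C.subtype_injective]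
  · rw [index_map_subtype, hk, hj, ← pow_add]

variable {G : Type u} [Group G] [Finite G]

/-- The criterion with sections in which the Sylow subgroup is maximal. -/
theorem npc_of_coatom {W : ∀ (Q : Type u) [Group Q], Subgroup Q} (hW : IsCharPFunctor.{u} p W)
    (hloc : ∀ (K R : Subgroup G) [hR : (R.subgroupOf K).Normal] (T : Sylow p (↥K ⧸ R.subgroupOf K)),
      Final T →
      (inducedFunctor (G := (↥K ⧸ R.subgroupOf K)) W (T : Subgroup (↥K ⧸ R.subgroupOf K))).Normal)
    (S : Sylow p G)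
    (hN : HasNormalPComplement p ↥(normalizer ((inducedFunctor W (S : Subgroup G) : Subgroup G) : Set G))) :
    HasNormalPComplement p G :=
  npc_of_quotients hW (fun K R _ T hT hTN =>
    (CfsgLib.PStab.npc_top_iff (normalizer_eq_top_iff.2 (hloc K R T hT))).1 hTN) S hN

/-- Strong fusion controlled by a subgroup with a `p`-nilpotent normalizer. -/
theorem npc_of_controlsStrongFusion {Γ : Type*} [Group Γ] [Finite Γ] {U : Subgroup Γ}
    (h : ControlsStrongFusion p U) (hU : HasNormalPComplement p ↥(normalizer (U : Set Γ))) :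
    HasNormalPComplement p Γ := by
  obtain ⟨T, hUT, hT⟩ := h
  set N := normalizer (U : Set Γ) with hN
  have hTN : (T : Subgroup Γ) ≤ N := by
    intro t ht
    obtain ⟨x, hx, hxt⟩ := (hT (T : Subgroup Γ) subset_rfl).2 t (by
      rintro _ ⟨a, ha, rfl⟩
      exact (T : Subgroup Γ).mul_mem ((T : Subgroup Γ).mul_mem ht ha) ((T : Subgroup Γ).inv_mem ht))
    rw [hN, ← CfsgLib.Fusion.conjSub_eq_iff_mem_normalizer]
    refine eq_of_le_of_card_ge ?_ (CfsgLib.Fusion.card_conjSub _ _).ge
    rintro _ ⟨a, ha, rfl⟩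
    show t * a * t⁻¹ ∈ U
    rw [hxt a (hUT ha)]
    exact (mem_normalizer_iff.1 hx a).1 ha
  refine CfsgLib.Transfer.hasNormalPComplement_of_controlsFusion T fun x hx g hg => ?_
  obtain ⟨n, hn, hnx⟩ := (hT {x} (Set.singleton_subset_iff.2 hx)).2 g (by rintro _ ⟨a, ha, rfl⟩; rw [Set.mem_singleton_iff.1 ha]; exact hg)
  have hnx' : g * x * g⁻¹ = n * x * n⁻¹ := hnx x rfl
  let TN : Sylow p N := T.subtype hTN
  have hTN0 : (TN : Subgroup N) = (T : Subgroup Γ).subgroupOf N := Sylow.coe_subtype _ _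
  obtain ⟨D, hD, hc⟩ := (CfsgLib.Transfer.hasNormalPComplement_iff_sylow TN).1 hU
  haveI := hD
  obtain ⟨d, hd, s, hs, hds⟩ := mem_sup_of_normal_left.1
    (hc.sup_eq_top ▸ mem_top (⟨n, hn⟩ : N) : (⟨n, hn⟩ : N) ∈ D ⊔ (TN : Subgroup N))
  refine ⟨s, by rw [hTN0] at hs; exact hs, ?_⟩
  set y : N := s * ⟨x, hTN hx⟩ * s⁻¹ with hy
  have hyT : y ∈ (TN : Subgroup N) :=
    (TN : Subgroup N).mul_mem ((TN : Subgroup N).mul_mem hs (by rw [hTN0]; exact hx))
      ((TN : Subgroup N).inv_mem hs)
  have hdy : d * y * d⁻¹ = (⟨n, hn⟩ : N) * ⟨x, hTN hx⟩ * (⟨n, hn⟩ : N)⁻¹ := by rw [← hds, hy]; group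
  have hmem : ⁅d, y⁆ ∈ D ⊓ (TN : Subgroup N) := by
    refine ⟨?_, ?_⟩
    · rw [commutatorElement_def, mul_assoc, mul_assoc]
      exact D.mul_mem hd (by simpa [mul_assoc] using hD.conj_mem _ (D.inv_mem hd) y)
    · rw [commutatorElement_def, hdy]
      refine (TN : Subgroup N).mul_mem ?_ ((TN : Subgroup N).inv_mem hyT)
      rw [hTN0]
      show n * x * n⁻¹ ∈ (T : Subgroup Γ)
      rw [← hnx']
      exact hg
  rw [hc.disjoint.eq_bot, mem_bot, commutatorElement_def, mul_inv_eq_one, hdy] at hmem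
  rw [hnx']
  exact (congrArg Subtype.val hmem).symm

/-- The K-infinity criterion. -/
theorem npc_kInfLower (hp2 : p ≠ 2) (S : Sylow p G)
    (hN : HasNormalPComplement p
      ↥(normalizer ((inducedFunctor kInfLower (S : Subgroup G) : Subgroup G) : Set G))) :
    HasNormalPComplement p G := by
  refine npc_of_coatom (KSeq.isCharPFunctor_kInfLower p) (fun K R _ T hT => ?_) S hN
  by_contra hn
  obtain ⟨g, -, -, -, -, hbad⟩ := Cfsg.Agent.S1983.result T (Or.inl hn)
  obtain ⟨M, hM, hMs⟩ := hbad hT.centralizer_le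
  exact hMs ((hT.series.map _ (QuotientGroup.mk'_surjective M)).isNormalizerPStable hp2)

end CfsgLib.Techniques.Complement
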