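import Cfsg.Agent.Lib.Techniques.Complement.Series
import Cfsg.Agent.Lib.PStab.Complement
import Cfsg.Agent.Lib.Techniques.KSeq
import Cfsg.Agent.Lib.Solvable.CoprimeAction

/-!
Normal `p`-complement criteria for the normalizer of a `p`-group functor: the reduction to a group
whose Sylow subgroup is maximal and whose middle factor is abelian.
-/

namespace CfsgLib.Techniques.Complement

open Subgroup Cfsg CfsgLib.Techniques CfsgLib.Techniques.Functor
open scoped commutatorElement
open CfsgLib.PStab (SylowIn npc_of_le npc_of_le_map npc_top_iff reduce_pCore npc_of_quotient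
  normalizer_map_le npc_congr_subgroupOf)

universe u

variable {p : ℕ} [hp : Fact p.Prime]

/-- The final configuration of the reduction. -/
structure Final {Γ : Type u} [Group Γ] (S : Sylow p Γ) : Prop where
  centralizer_le : centralizer ((pCore p Γ : Subgroup Γ) : Set Γ) ≤ pCore p Γ
  coatom : IsCoatom (S : Subgroup Γ)
  middle : ∃ K : Subgroup Γ, K.Normal ∧ pCore p Γ ≤ K ∧ ((pCore p Γ).relIndex K).Coprime p ∧
    ⁅K, K⁆ ≤ pCore p Γ ∧ (∃ k, K.index = p ^ k) ∧ K ⊔ (S : Subgroup Γ) = ⊤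

theorem Final.series {Γ : Type u} [Group Γ] [Finite Γ] {S : Sylow p Γ} (h : Final S) :
    Series p Γ := by
  obtain ⟨K, hK, hle, hcop, hab, hidx, -⟩ := h.middle
  exact ⟨pCore p Γ, K, (by haveI := CfsgLib.Cores.pCore_characteristic (G := Γ) p; infer_instance), hK, hle,
    CfsgLib.Cores.isPGroup_pCore p, hcop, hab, hidx⟩

theorem Final.quotient_npc {Γ : Type u} [Group Γ] [Finite Γ] {S : Sylow p Γ} (h : Final S) :
    HasNormalPComplement p (Γ ⧸ pCore p Γ) := by
  obtain ⟨K, hK, hle, hcop, -, ⟨k, hk⟩, -⟩ := h.middle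
  set π := QuotientGroup.mk' (pCore p Γ)
  have hker : π.ker = pCore p Γ := QuotientGroup.ker_mk' _
  refine CfsgLib.Transfer.hasNormalPComplement_of (N := K.map π)
    (hK.map π (QuotientGroup.mk'_surjective _)) ?_ (k := k) ?_
  · rw [← relIndex_bot_left, ← Subgroup.map_bot π, relIndex_map_map, hker, bot_sup_eq,
      sup_eq_left.2 hle]
    exact hcop
  · rw [index_map_eq K (QuotientGroup.mk'_surjective _) (by rw [hker]; exact hle), hk]

theorem Final.congr {Γ Δ : Type u} [Group Γ] [Group Δ] [Finite Γ] [Finite Δ] (e : Γ ≃* Δ)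
    {S : Sylow p Γ} {T : Sylow p Δ} (hT : (S : Subgroup Γ).map e.toMonoidHom = (T : Subgroup Δ))
    (h : Final S) : Final T := by
  have hmap := CfsgLib.Cores.map_pCore_equiv (p := p) e
  obtain ⟨K, hK, hle, hcop, hab, ⟨k, hk⟩, hsup⟩ := h.middle
  refine ⟨?_, hT ▸ (e.mapSubgroup.isCoatom_iff _).2 h.coatom,
    K.map e.toMonoidHom, hK.map _ e.surjective, hmap ▸ map_mono hle, ?_, ?_, ⟨k, ?_⟩, ?_⟩
  · intro x hx
    obtain ⟨y, rfl⟩ := e.surjective x
    rw [← hmap]
    refine mem_map_of_mem _ (h.centralizer_le (mem_centralizer_iff.2 fun z hz => e.injective ?_))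
    rw [map_mul, map_mul]
    exact mem_centralizer_iff.1 hx (e z) (hmap ▸ mem_map_of_mem _ hz)
  · rw [← hmap, relIndex_map_map_of_injective _ _ e.injective]; exact hcop
  · rw [← map_commutator, ← hmap]; exact map_mono hab
  · rw [← hk]; exact index_map_equiv K e
  · rw [← hT, ← Subgroup.map_sup, hsup, map_top_of_surjective _ e.surjective]

theorem final_of_reduced {Γ : Type u} [Group Γ] [Finite Γ] (P : Sylow p Γ)
    (hG : ¬ HasNormalPComplement p Γ) (hO : pPrimeCore p Γ = ⊥)
    (hQ : HasNormalPComplement p (Γ ⧸ pCore p Γ))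
    (hprop : ∀ M : Subgroup Γ, M ≠ ⊤ → (P : Subgroup Γ) ≤ M → HasNormalPComplement p M) :
    Final P := by
  set H := pCore p Γ with hH
  set π := QuotientGroup.mk' H
  have hπ : Function.Surjective π := QuotientGroup.mk'_surjective H
  obtain ⟨Kb, hKbn, hKc, k, hk⟩ := CfsgLib.Transfer.hasNormalPComplement_iff.1 hQ
  set K := Kb.comap π with hKdef
  have hKn : K.Normal := hKbn.comap π
  have hHK : H ≤ K := by
    intro x hx
    show π x ∈ Kb
    rw [show π x = 1 from (QuotientGroup.eq_one_iff x).2 hx]; exact one_mem _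
  have hidx : K.index = p ^ k := by rw [hKdef, index_comap_of_surjective _ hπ, hk]
  have hrel : H.relIndex K = Nat.card Kb := by
    have h1 := relIndex_mul_index hHK
    have h2 := card_mul_index Kb
    rw [hidx] at h1
    rw [hk] at h2
    have h4 : H.index = Nat.card (Γ ⧸ H) := rfl
    exact Nat.eq_of_mul_eq_mul_right (pow_pos hp.out.pos k) (h1.trans (h4.trans h2.symm))
  have hKsup : K ⊔ (P : Subgroup Γ) = ⊤ := CfsgLib.Transfer.sup_sylow_eq_top P hidx
  have hsol : IsPSolvable p Γ := by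
    obtain ⟨j, hj⟩ := IsPGroup.iff_card.1 (CfsgLib.Cores.isPGroup_pCore p (G := Γ))
    refine ⟨3, ![⊥, H, K, ⊤], rfl, rfl, ?_, ?_, ?_⟩
    · rw [Fin.monotone_iff_le_succ]
      intro i
      fin_cases i
      · exact bot_le
      · exact hHK
      · exact le_top
    · intro i
      fin_cases i
      · exact (inferInstance : (⊥ : Subgroup Γ).Normal)
      · exact (inferInstance : H.Normal)
      · exact hKn
      · exact (inferInstance : (⊤ : Subgroup Γ).Normal)
    · intro i
      fin_cases i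
      · exact Or.inl ⟨j, by simpa [relIndex_bot_left] using hj⟩
      · exact Or.inr (show (H.relIndex K).Coprime p from hrel ▸ hKc)
      · exact Or.inl ⟨k, show K.relIndex ⊤ = p ^ k by rw [relIndex_top_right, hidx]⟩
  have hCH := CfsgLib.Transfer.centralizer_pCore_le_of_isPSolvable hsol hO
  have hmaxP : ∀ M : Subgroup Γ, (P : Subgroup Γ) ≤ M → M ≠ ⊤ → M = P := by
    intro M hPM hM
    refine P.3 ?_ hPM
    have hc := CfsgLib.Transfer.hasNormalPComplement_iff_pResidual.1 (hprop M hM hPM)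
    refine (CfsgLib.Transfer.isPGroup_quotient_pResidual (G := M) (p := p)).of_injective
      (QuotientGroup.mk' (pResidual p M)) ((injective_iff_map_eq_one _).2 fun x hx => ?_)
    have hxR : x ∈ pResidual p M := (QuotientGroup.eq_one_iff x).1 hx
    have hco : (orderOf (x : Γ)).Coprime p := by
      rw [orderOf_coe]
      exact Nat.Coprime.coprime_dvd_left (orderOf_dvd_natCard _ hxR) hc
    have hxC : (x : Γ) ∈ centralizer (H : Set Γ) := by
      have h := CfsgLib.Transfer.mem_centralizer_of_hasNormalPComplement (hprop M hM hPM)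
        (Q := H.subgroupOf M) (CfsgLib.Cores.isPGroup_pCore p (G := Γ)).comap_subtype (g := x)
        (by rw [normalizer_eq_top]; trivial) (by rwa [orderOf_coe] at hco)
      exact mem_centralizer_iff.2 fun y hy => congrArg Subtype.val
        (mem_centralizer_iff.1 h ⟨y, hPM (CfsgLib.Cores.pCore_le_sylow P hy)⟩ hy)
    have : (⟨x, hCH hxC⟩ : H) = 1 := CfsgLib.Transfer.eq_one_of_coprime_of_isPGroup
      (CfsgLib.Cores.isPGroup_pCore p (G := Γ)) (by rwa [orderOf_mk])
    exact Subtype.ext (congrArg (fun y : H => (y : Γ)) this)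
  have hPtop : (P : Subgroup Γ) ≠ ⊤ := fun e => hG (CfsgLib.Transfer.hasNormalPComplement_of_isPGroup
    (P.2.of_equiv ((MulEquiv.subgroupCongr e).trans topEquiv)))
  have hcoatom : IsCoatom (P : Subgroup Γ) :=
    ⟨hPtop, fun M hM => by_contra fun hne => hM.ne (hmaxP M hM.le hne).symm⟩
  refine ⟨hCH, hcoatom, K, hKn, hHK, hrel ▸ hKc, ?_, ⟨k, hidx⟩, hKsup⟩
  -- the middle factor is abelian
  have hbound : ∀ X : Subgroup (Γ ⧸ H), X ≠ ⊥ → X ≤ Kb →
      (P : Subgroup Γ).map π ≤ normalizer (X : Set (Γ ⧸ H)) → X = Kb := by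
    intro X hX hXK hPX
    set M := (X ⊔ (P : Subgroup Γ).map π).comap π
    have hPM : (P : Subgroup Γ) ≤ M := fun x hx => mem_sup_right ⟨x, hx, rfl⟩
    obtain ⟨j, hj⟩ := IsPGroup.iff_card.1 (P.2.map π)
    have hMtop : M = ⊤ := by
      by_contra hne
      apply hX
      have hMP := hmaxP M hPM hne
      have h1 : X ≤ (P : Subgroup Γ).map π := fun y hy => by
        obtain ⟨x, rfl⟩ := hπ y
        exact ⟨x, hMP.le (mem_sup_left hy), rfl⟩
      exact eq_bot_of_card_eq _ (Nat.Coprime.eq_one_of_dvd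
        ((Nat.Coprime.coprime_dvd_left (card_dvd_of_le hXK) hKc).pow_right j)
        (hj ▸ card_dvd_of_le h1))
    have hsup : X ⊔ (P : Subgroup Γ).map π = ⊤ := by
      rw [← map_comap_eq_self_of_surjective hπ (X ⊔ (P : Subgroup Γ).map π),
        show (X ⊔ (P : Subgroup Γ).map π).comap π = ⊤ from hMtop, map_top_of_surjective _ hπ]
    refine le_antisymm hXK fun y hy => ?_
    obtain ⟨u, hu, v, hv, rfl⟩ :=
      CfsgLib.Solvable.exists_mul_of_mem_sup hPX (hsup.ge (mem_top y))
    have hvK : v ∈ Kb := by simpa using Kb.mul_mem (Kb.inv_mem (hXK hu)) hy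
    have hd : Disjoint Kb ((P : Subgroup Γ).map π) :=
      disjoint_of_coprime_natCard (hj ▸ hKc.pow_right j)
    rwa [disjoint_def.1 hd hvK hv, mul_one]
  suffices hab : ⁅Kb, Kb⁆ = ⊥ by
    rw [commutator_le]
    intro x hx y hy
    refine (QuotientGroup.eq_one_iff _).1 (mem_bot.1 (hab.le ?_))
    show π ⁅x, y⁆ ∈ ⁅Kb, Kb⁆
    rw [map_commutatorElement]
    exact commutator_mem_commutator hx hy
  rcases eq_or_ne Kb ⊥ with hKb | hKb
  · rw [hKb, commutator_bot_left]
  obtain ⟨q, hq, hqd⟩ := Nat.exists_prime_and_dvd (n := Nat.card Kb) fun e =>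
    hKb (eq_bot_of_card_eq _ e)
  haveI := Fact.mk hq
  obtain ⟨j, hj⟩ := IsPGroup.iff_card.1 (P.2.map π)
  have hsolP : Group.IsSolvable ↥((P : Subgroup Γ).map π) := by
    haveI := (P.2.map π).isNilpotent
    infer_instance
  have hPK : (P : Subgroup Γ).map π ≤ normalizer (Kb : Set (Γ ⧸ H)) := by
    rw [normalizer_eq_top]; exact le_top
  obtain ⟨Qs, hQs⟩ := CfsgLib.Solvable.exists_invariant_sylow ((P : Subgroup Γ).map π) Kb hPK
    (hj ▸ (hKc.pow_right j).symm) (Or.inl hsolP) q
  have hQK : (Qs : Subgroup Kb).map Kb.subtype = Kb :=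
    hbound _ (fun e => Qs.ne_bot_of_dvd_card hqd
      ((map_eq_bot_iff_of_injective _ Kb.subtype_injective).1 e)) (map_subtype_le _) hQs
  have hKq : IsPGroup q Kb := hQK ▸ Qs.2.map Kb.subtype
  by_contra hne
  have e := hbound ⁅Kb, Kb⁆ hne (commutator_le_self Kb) (le_top.trans (normalizer_eq_top _).ge)
  haveI : Nontrivial Kb := (nontrivial_iff_ne_bot Kb).2 hKb
  have h1 := CfsgLib.PGroup.commutator_le_frattini (G := Kb) hKq
  have h2 : (_root_.commutator Kb).map Kb.subtype = ⁅Kb, Kb⁆ := map_subtype_commutator Kb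
  refine CfsgLib.PGroup.frattini_ne_top (G := Kb) hKq (top_le_iff.1 fun x _ => ?_)
  have hx : (x : Γ ⧸ H) ∈ (_root_.commutator Kb).map Kb.subtype := by rw [h2, e]; exact x.2
  obtain ⟨y, hy, hxy⟩ := hx
  exact h1 (Kb.subtype_injective hxy ▸ hy)

variable {W : ∀ (Q : Type u) [Group Q], Subgroup Q}

/-- The reduction, over all sections. -/
theorem npc_of_sections (hW : IsCharPFunctor.{u} p W) {G : Type u} [Group G] [Finite G]
    (hfin : ∀ (Δ : Type u) [Group Δ] [Finite Δ], IsSect Δ G → ∀ T : Sylow p Δ, Final T →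
      HasNormalPComplement p ↥(normalizer ((inducedFunctor W (T : Subgroup Δ) : Subgroup Δ) : Set Δ)) →
      HasNormalPComplement p Δ) :
    ∀ n, ∀ (Γ : Type u) [Group Γ] [Finite Γ], Nat.card Γ = n → IsSect Γ G → ∀ S : Sylow p Γ,
      HasNormalPComplement p ↥(normalizer ((inducedFunctor W (S : Subgroup Γ) : Subgroup Γ) : Set Γ)) →
      HasNormalPComplement p Γ := by
  intro n
  induction n using Nat.strong_induction_on with
  | _ n ih =>
  intro Γ _ _ hn hΓ P hWP
  by_contra hG
  have hconj := isConjugacyFunctor_induced (G := Γ) hW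
  obtain ⟨hHne, hprop, hK⟩ := reduce_pCore P (inducedFunctor W) (fun P1 _ => induced_le P1)
    (fun P1 h1 _ hne => induced_ne_bot hW (P.2.to_le h1) hne)
    (fun P1 h1 => inf_le_right.trans (normalizer_induced_ge hW (P.2.to_le h1))) hWP
    (fun N hN hT _ h => by
      obtain ⟨T, hT⟩ := hT
      refine ih _ (hn ▸ lt_of_le_of_ne (card_le_card_group N)
        fun e => hN (eq_top_of_card_eq N e)) N rfl ((IsSect.subgroup N).trans hΓ) T ?_
      refine npc_congr_subgroupOf ?_ h
      rw [← hT]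
      exact map_induced hW N.subtype T.2 fun x _ hx => Subtype.ext hx) hG
  by_cases hO : pPrimeCore p Γ = ⊥
  swap
  · apply hG
    set N := pPrimeCore p Γ
    have hNc := CfsgLib.Cores.coprime_card_pPrimeCore (G := Γ) p
    refine npc_of_quotient hNc ?_
    set π := QuotientGroup.mk' N
    have hπ : Function.Surjective π := QuotientGroup.mk'_surjective N
    refine ih _ (hn ▸ CfsgLib.Solvable.card_quotient_lt _ hO) (Γ ⧸ N) rfl
      ((IsSect.quotient N).trans hΓ) (P.mapSurjective hπ) ?_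
    rw [Sylow.coe_mapSurjective, ← map_induced hW π P.2 (fun x hx hx1 => ?_)]
    · exact npc_of_le_map π (normalizer_map_le hNc (P.2.to_le (induced_le _))) hWP
    · have hxN : x ∈ N := (QuotientGroup.eq_one_iff x).1 hx1
      have : (⟨x, hx⟩ : (P : Subgroup Γ)) = 1 := CfsgLib.Transfer.eq_one_of_coprime_of_isPGroup P.2
        (by rw [orderOf_mk]; exact Nat.Coprime.coprime_dvd_left (orderOf_dvd_natCard _ hxN) hNc)
      exact congrArg Subtype.val this
  set H := pCore p Γ with hH
  have hHp := CfsgLib.Cores.isPGroup_pCore p (G := Γ)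
  by_cases hPH : (P : Subgroup Γ) ≤ H
  · apply hG
    refine (npc_top_iff (eq_top_iff.2 (le_trans ?_ (normalizer_induced_ge hW P.2)))).1 hWP
    rw [le_antisymm hPH (CfsgLib.Cores.pCore_le_sylow P), normalizer_eq_top]
  set π := QuotientGroup.mk' H
  have hπ : Function.Surjective π := QuotientGroup.mk'_surjective H
  let Pb : Sylow p (Γ ⧸ H) := P.mapSurjective hπ
  have hPb : (Pb : Subgroup (Γ ⧸ H)) = (P : Subgroup Γ).map π := Sylow.coe_mapSurjective _ _
  have hPbne : (Pb : Subgroup (Γ ⧸ H)) ≠ ⊥ := fun e0 => hPH fun x hx =>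
    (QuotientGroup.eq_one_iff x).1 (mem_bot.1 (e0.le (hPb ▸ mem_map_of_mem π hx)))
  set K := (inducedFunctor W (Pb : Subgroup (Γ ⧸ H))).comap π with hKdef
  have hKp : IsPGroup p K := (Pb.2.to_le (induced_le _)).comap_of_ker_isPGroup π
    (by rw [QuotientGroup.ker_mk']; exact hHp)
  have hHK : H < K := by
    refine lt_of_le_of_ne (fun x hx => ?_) fun e0 => ?_
    · show π x ∈ inducedFunctor W (Pb : Subgroup (Γ ⧸ H))
      rw [show π x = 1 from (QuotientGroup.eq_one_iff x).2 hx]; exact one_mem _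
    · refine induced_ne_bot hW Pb.2 hPbne (le_bot_iff.1 fun y hy => ?_)
      obtain ⟨x, rfl⟩ := hπ y
      exact mem_bot.2 ((QuotientGroup.eq_one_iff x).2 (e0.ge hy))
  have hNK : normalizer (K : Set Γ) =
      (normalizer ((inducedFunctor W (Pb : Subgroup (Γ ⧸ H)) : Subgroup (Γ ⧸ H)) : Set (Γ ⧸ H))).comap π :=
    (comap_normalizer_eq_of_surjective _ hπ).symm
  have hPK : (P : Subgroup Γ) ≤ normalizer (K : Set Γ) := by
    rw [hNK, ← map_le_iff_le_comap, ← hPb]
    exact le_normalizer.trans (normalizer_induced_ge hW Pb.2)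
  have hquot : HasNormalPComplement p (Γ ⧸ H) :=
    ih _ (hn ▸ CfsgLib.Solvable.card_quotient_lt _ hHne) (Γ ⧸ H) rfl
      ((IsSect.quotient H).trans hΓ) Pb
      (npc_of_le_map π (by rw [hNK, map_comap_eq_self_of_surjective hπ]) (hK K hKp hHK hPK))
  exact hG (hfin Γ hΓ P (final_of_reduced P hG hO hquot hprop) hWP)

/-- The reduction, with the final hypothesis on the sections `K / R`. -/
theorem npc_of_quotients (hW : IsCharPFunctor.{u} p W) {G : Type u} [Group G] [Finite G]
    (hfin : ∀ (K R : Subgroup G) [hR : (R.subgroupOf K).Normal]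
      (T : Sylow p (↥K ⧸ R.subgroupOf K)), Final T →
      HasNormalPComplement p
        ↥(normalizer ((inducedFunctor W (T : Subgroup (↥K ⧸ R.subgroupOf K)) :
          Subgroup (↥K ⧸ R.subgroupOf K)) : Set (↥K ⧸ R.subgroupOf K))) →
      HasNormalPComplement p (↥K ⧸ R.subgroupOf K))
    (S : Sylow p G)
    (hN : HasNormalPComplement p ↥(normalizer ((inducedFunctor W (S : Subgroup G) : Subgroup G) : Set G))) :
    HasNormalPComplement p G := by
  refine npc_of_sections hW (fun Δ _ _ hΔ T hT hTN => ?_) _ G rfl (IsSect.refl G) S hN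
  obtain ⟨K, R, hR, ⟨e⟩⟩ := hΔ.exists_quotient
  let T' : Sylow p (↥K ⧸ R.subgroupOf K) := T.mapSurjective (f := e.symm.toMonoidHom) e.symm.surjective
  have hT' : (T : Subgroup Δ).map e.symm.toMonoidHom = (T' : Subgroup (↥K ⧸ R.subgroupOf K)) :=
    (Sylow.coe_mapSurjective _ _).symm
  refine (CfsgLib.Transfer.hasNormalPComplement_congr e).1 (hfin K R T' (hT.congr e.symm hT') ?_)
  refine npc_of_le_map e.symm.toMonoidHom ?_ hTN
  rw [← hT', ← map_induced hW e.symm.toMonoidHom T.2 fun x _ hx =>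
    e.symm.injective (hx.trans (map_one e.symm).symm)]
  exact (map_equiv_normalizer_eq _ e.symm).ge

end CfsgLib.Techniques.Complement
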