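import Cfsg.Agent.Lib.Techniques.GoodTransfer
import Cfsg.Agent.Lib.Techniques.Complement.Reduce

/-!
An element of degree less than `p` on a faithful chief factor centralizes an abelian `p'`-group of
operators which it normalizes; the final configuration has no such element.
-/

namespace CfsgLib.Techniques.Complement

open Subgroup Cfsg CfsgLib.Techniques
open scoped commutatorElement

universe u

/-- If the first `p` powers of a unit add up to zero, it commutes with every abelian group of units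
of order prime to `p` that it normalizes. -/
theorem commute_of_norm_zero {R : Type*} [Ring R] {p : ℕ} [hp : Fact p.Prime] (hR : (p : R) = 0)
    (g : Rˣ) (hg : ∑ i ∈ Finset.range p, (g : R) ^ i = 0) (K : Subgroup Rˣ) [Finite K]
    (hK : ∀ a ∈ K, ∀ b ∈ K, a * b = b * a) (hcop : (Nat.card K).Coprime p)
    (hnorm : ∀ a ∈ K, g * a * g⁻¹ ∈ K) : ∀ k ∈ K, g * k = k * g := by
  classical
  letI := Fintype.ofFinite K
  letI : CommGroup K := { (inferInstance : Group K) with
    mul_comm := fun a b => Subtype.ext (hK a a.2 b b.2) }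
  have hpow : g ^ p = 1 := Units.ext (by
    have h := geom_sum_mul (g : R) p
    rw [hg, zero_mul, eq_comm, sub_eq_zero] at h
    simpa using h)
  have hnormi : ∀ i : ℕ, ∀ a ∈ K, g ^ i * a * (g ^ i)⁻¹ ∈ K := by
    intro i
    induction i with
    | zero => intro a ha; simpa using ha
    | succ i ih =>
      intro a ha
      have := hnorm _ (ih a ha)
      rwa [show g * (g ^ i * a * (g ^ i)⁻¹) * g⁻¹ = g ^ (i + 1) * a * (g ^ (i + 1))⁻¹ by
        rw [pow_succ']; group] at this
  let φ : ℕ → K →* K := fun i => MonoidHom.mk'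
    (fun k => k * ⟨g ^ i * (k : Rˣ)⁻¹ * (g ^ i)⁻¹, hnormi i _ (K.inv_mem k.2)⟩) fun a b => by
      rw [mul_mul_mul_comm]
      congr 1
      refine Subtype.ext ?_
      show g ^ i * ((a : Rˣ) * b)⁻¹ * (g ^ i)⁻¹ = g ^ i * (a : Rˣ)⁻¹ * (g ^ i)⁻¹ *
        (g ^ i * (b : Rˣ)⁻¹ * (g ^ i)⁻¹)
      rw [hK a a.2 b b.2, mul_inv_rev]
      group
  have hφ : ∀ i (k : K), ((φ i k : K) : Rˣ) * g ^ i = k * g ^ i * (k : Rˣ)⁻¹ := fun i k => by
    show (k : Rˣ) * (g ^ i * (k : Rˣ)⁻¹ * (g ^ i)⁻¹) * g ^ i = _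
    group
  have hkeri : ∀ i (k : K), φ i k = 1 ↔ g ^ i * k = k * g ^ i := fun i k => by
    constructor
    · intro h
      have h1 := hφ i k
      rw [h, OneMemClass.coe_one, one_mul] at h1
      exact (eq_mul_inv_iff_mul_eq.1 h1)
    · intro h
      refine Subtype.ext (mul_right_cancel (b := g ^ i) ?_)
      rw [hφ, OneMemClass.coe_one, one_mul, ← h, mul_inv_cancel_right]
  -- the ranges agree
  have hrange : ∀ i, 0 < i → i < p → (φ 1).range ≤ (φ i).range := by
    intro i hi0 hi
    have hker : (φ i).ker = (φ 1).ker := by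
      ext k
      rw [MonoidHom.mem_ker, MonoidHom.mem_ker, hkeri, hkeri, pow_one]
      refine ⟨fun h => ?_, fun h => Commute.pow_left h i⟩
      obtain ⟨j, hj⟩ := exists_pow_eq_self_of_coprime (x := g) (n := i)
        (Nat.Coprime.coprime_dvd_right (orderOf_dvd_of_pow_eq_one hpow)
          ((hp.out.coprime_iff_not_dvd.2 fun hd => absurd (Nat.le_of_dvd hi0 hd) (by omega)).symm))
      rw [← hj]
      exact Commute.pow_left h j
    have hle : (φ i).range ≤ (φ 1).range := by
      rintro _ ⟨k, rfl⟩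
      clear hker hi hi0
      induction i with
      | zero =>
        rw [show φ 0 k = 1 from (hkeri 0 k).2 (by simp)]
        exact one_mem _
      | succ i ih =>
        obtain ⟨m, hm⟩ := ih
        have hconj : (⟨_, hnorm _ (φ i k).2⟩ : K) ∈ (φ 1).range := by
          -- conjugation by `g` carries the range of `φ 1` to itself
          refine ⟨⟨g * (m : Rˣ) * g⁻¹, hnorm _ m.2⟩, Subtype.ext ?_⟩
          show g * (m : Rˣ) * g⁻¹ * (g ^ 1 * (g * (m : Rˣ) * g⁻¹)⁻¹ * (g ^ 1)⁻¹) =
            g * ((φ i k : K) : Rˣ) * g⁻¹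
          rw [← hm]
          show _ = g * ((m : Rˣ) * (g ^ 1 * (m : Rˣ)⁻¹ * (g ^ 1)⁻¹)) * g⁻¹
          rw [pow_one]
          group
        have he : φ (i + 1) k = φ 1 k * (⟨_, hnorm _ (φ i k).2⟩ : K) := by
          refine Subtype.ext ?_
          show (k : Rˣ) * (g ^ (i + 1) * (k : Rˣ)⁻¹ * (g ^ (i + 1))⁻¹) =
            (k : Rˣ) * (g ^ 1 * (k : Rˣ)⁻¹ * (g ^ 1)⁻¹) *
              (g * ((k : Rˣ) * (g ^ i * (k : Rˣ)⁻¹ * (g ^ i)⁻¹)) * g⁻¹)
          rw [pow_one, pow_succ']
          group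
        rw [he]
        exact mul_mem ⟨k, rfl⟩ hconj
    refine (eq_of_le_of_card_ge hle ?_).ge
    rw [← index_ker, ← index_ker, hker]
  intro k0 hk0
  set d : K := φ 1 ⟨k0, hk0⟩ with hd
  let E : ℕ → R := fun i => ∑ k : K, (((φ i k : K) : Rˣ) : R)
  have hsum : ∑ i ∈ Finset.range p, E i * (g : R) ^ i = 0 := by
    have h : ∀ k : K, ∑ i ∈ Finset.range p, (((φ i k : K) : Rˣ) : R) * (g : R) ^ i = 0 := fun k => by
      have e : ∀ i, (((φ i k : K) : Rˣ) : R) * (g : R) ^ i =
          ((k : Rˣ) : R) * (g : R) ^ i * (((k : Rˣ)⁻¹ : Rˣ) : R) := fun i => by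
        rw [← Units.val_pow_eq_pow_val, ← Units.val_mul, ← Units.val_mul, ← Units.val_mul, hφ]
      rw [Finset.sum_congr rfl fun i _ => e i, ← Finset.sum_mul, ← Finset.mul_sum, hg, mul_zero,
        zero_mul]
    show ∑ i ∈ Finset.range p, (∑ k : K, (((φ i k : K) : Rˣ) : R)) * (g : R) ^ i = 0
    simp only [Finset.sum_mul]
    rw [Finset.sum_comm]
    exact Finset.sum_eq_zero fun k _ => h k
  have hE : ∀ i, 0 < i → i < p → ((d : Rˣ) : R) * E i = E i := by
    intro i hi0 hi
    obtain ⟨m, hm⟩ := hrange i hi0 hi ⟨⟨k0, hk0⟩, rfl⟩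
    show ((d : Rˣ) : R) * ∑ k : K, (((φ i k : K) : Rˣ) : R) = _
    rw [Finset.mul_sum]
    refine Fintype.sum_equiv (Equiv.mulLeft m) _ _ fun k => ?_
    rw [Equiv.coe_mulLeft, map_mul, hm, Subgroup.coe_mul, Units.val_mul]
  have h0 : ((d : Rˣ) : R) * E 0 = E 0 := by
    have h1 := congrArg (fun x => ((d : Rˣ) : R) * x) hsum
    simp only [mul_zero, Finset.mul_sum] at h1
    rw [← Finset.add_sum_erase _ _ (Finset.mem_range.2 hp.out.pos)] at h1 hsum
    have h2 : ∀ i ∈ (Finset.range p).erase 0,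
        ((d : Rˣ) : R) * (E i * (g : R) ^ i) = E i * (g : R) ^ i := fun i hi => by
      obtain ⟨hi0, hi⟩ := Finset.mem_erase.1 hi
      rw [← mul_assoc, hE i (Nat.pos_of_ne_zero hi0) (Finset.mem_range.1 hi)]
    rw [Finset.sum_congr rfl h2] at h1
    rw [pow_zero, mul_one] at h1 hsum
    exact add_right_cancel (h1.trans hsum.symm)
  have hE0 : E 0 = (Nat.card K : R) := by
    show ∑ k : K, (((φ 0 k : K) : Rˣ) : R) = _
    rw [Finset.sum_eq_card_nsmul (b := (1 : R)) fun k _ => by
      rw [(hkeri 0 k).2 (by simp)]; rfl, nsmul_one, Finset.card_univ, Nat.card_eq_fintype_card]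
  rw [hE0] at h0
  obtain ⟨a, b, hab⟩ : ∃ a b : ℤ, (Nat.card K : ℤ) * a + p * b = 1 :=
    ⟨_, _, by have := Nat.gcd_eq_gcd_ab (Nat.card K) p; rw [hcop] at this; exact this.symm⟩
  have hunit : (Nat.card K : R) * (a : R) = 1 := by
    have := congrArg (fun z : ℤ => (z : R)) hab
    simpa [hR] using this
  have hd1 : d = 1 := Subtype.ext (Units.ext (by
    have h3 := congrArg (fun x => x * (a : R)) h0
    simp only [mul_assoc, hunit, mul_one] at h3
    simpa using h3))
  have := (hkeri 1 ⟨k0, hk0⟩).1 hd1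
  simpa using this

variable {p : ℕ} [hp : Fact p.Prime]

/-- In the final configuration no element outside `O_p` has degree less than `p` on a chief factor
below `O_p` which it moves. -/
theorem no_engel {Γ : Type u} [Group Γ] [Finite Γ] {T : Sylow p Γ} (hT : Final T) {g : Γ}
    (hgT : g ∈ (T : Subgroup Γ)) (hgP : g ∉ pCore p Γ) {U V : Subgroup Γ} (hUV : IsChiefFactor U V)
    (hU : U ≤ pCore p Γ) (hdeg : iterCommutator U (zpowers g) (p - 1) ≤ V) :
    ⁅U, zpowers g⁆ ≤ V := by
  haveI := hUV.2.1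
  haveI hVn := hUV.2.2.1
  set P := pCore p Γ with hP
  haveI hPn : P.Normal := by
    have := CfsgLib.Cores.pCore_characteristic (G := Γ) p
    infer_instance
  have hPp : IsPGroup p P := CfsgLib.Cores.isPGroup_pCore p
  have hUp := hPp.to_le hU
  have hUU := Chief.chief_comm hUV hUp
  have hUP : ⁅U, P⁆ ≤ V := Chief.commutator_le_of_chief hUV hUp hPp
  by_contra hne
  let Vq := ↥U ⧸ V.subgroupOf U
  have hcomm : ∀ u v : Vq, u * v = v * u := by
    intro u v
    obtain ⟨u, rfl⟩ := QuotientGroup.mk'_surjective _ u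
    obtain ⟨v, rfl⟩ := QuotientGroup.mk'_surjective _ v
    rw [← commutatorElement_eq_one_iff_mul_comm, ← map_commutatorElement]
    exact (QuotientGroup.eq_one_iff _).2 (hUU (commutator_mem_commutator u.2 v.2))
  letI : CommGroup Vq := { (inferInstance : Group Vq) with mul_comm := hcomm }
  let π : ↥U →* Vq := QuotientGroup.mk' _
  let σ : Γ → (Vq →* Vq) := fun x => QuotientGroup.map _ _ (MulAut.conjNormal x).toMonoidHom
    fun u hu => by
      show ((MulAut.conjNormal x u : ↥U) : Γ) ∈ V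
      rw [MulAut.conjNormal_apply]
      exact hVn.conj_mem _ hu x
  have hσ : ∀ x (u : ↥U), σ x (π u) = π (MulAut.conjNormal x u) := fun _ _ => rfl
  let end' : Γ →* AddMonoid.End (Additive Vq) :=
    { toFun := fun x => (σ x).toAdditive
      map_one' := by
        ext z
        obtain ⟨u, hu⟩ := QuotientGroup.mk'_surjective _ (Additive.toMul z)
        show Additive.ofMul (σ 1 (Additive.toMul z)) = z
        rw [← hu, hσ, map_one]
        exact congrArg Additive.ofMul hu
      map_mul' := fun x y => by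
        ext z
        obtain ⟨u, hu⟩ := QuotientGroup.mk'_surjective _ (Additive.toMul z)
        show Additive.ofMul (σ (x * y) (Additive.toMul z)) =
          Additive.ofMul (σ x (σ y (Additive.toMul z)))
        rw [← hu, hσ, hσ, hσ, map_mul]
        rfl }
  let ρ : Γ →* (AddMonoid.End (Additive Vq))ˣ := end'.toHomUnits
  have hρ : ∀ x, ρ x = 1 ↔ ∀ u ∈ U, ⁅x, u⁆ ∈ V := by
    intro x
    constructor
    · intro h u hu
      have h1 := congrArg (fun e => Additive.toMul ((Units.val e) (Additive.ofMul (π ⟨u, hu⟩)))) h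
      have h2 : π (MulAut.conjNormal x ⟨u, hu⟩) = π ⟨u, hu⟩ := h1
      rw [← div_eq_one, ← map_div] at h2
      have h3 := (QuotientGroup.eq_one_iff _).1 h2
      rw [mem_subgroupOf, div_eq_mul_inv, Subgroup.coe_mul, Subgroup.coe_inv,
        MulAut.conjNormal_apply] at h3
      exact h3
    · intro h
      refine Units.ext ?_
      ext z
      obtain ⟨u, hu⟩ := QuotientGroup.mk'_surjective _ (Additive.toMul z)
      show Additive.ofMul (σ x (Additive.toMul z)) = z
      rw [← hu, hσ]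
      refine Eq.trans (congrArg Additive.ofMul ?_) (congrArg Additive.ofMul hu)
      rw [← div_eq_one, ← map_div]
      refine (QuotientGroup.eq_one_iff _).2 ?_
      rw [mem_subgroupOf, div_eq_mul_inv, Subgroup.coe_mul, Subgroup.coe_inv, MulAut.conjNormal_apply]
      exact h u u.2
  set C := ρ.ker with hC
  have hCn : C.Normal := inferInstance
  have hPC : P ≤ C := fun x hx => (hρ x).2 fun u hu => by
    rw [← commutatorElement_inv]
    exact V.inv_mem (hUP (commutator_mem_commutator hu hx))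
  -- the action is faithful
  have hCP : C ≤ P := by
    by_cases hCT : C ≤ (T : Subgroup Γ)
    · exact CfsgLib.Cores.le_pCore (T.2.to_le hCT)
    exfalso
    have htop : (T : Subgroup Γ) ⊔ C = ⊤ := hT.coatom.2 _ (lt_of_le_of_ne le_sup_left fun e =>
      hCT (le_sup_right.trans e.ge))
    let τ := QuotientGroup.mk' V
    have hτ : Function.Surjective τ := QuotientGroup.mk'_surjective V
    let Tb : Subgroup (Γ ⧸ V) := (T : Subgroup Γ).map τ
    have hUT : U.map τ ≤ Tb := map_mono (hU.trans (CfsgLib.Cores.pCore_le_sylow T))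
    have hUbn : (U.map τ).Normal := hUV.2.1.map τ hτ
    have hUb : (U.map τ).subgroupOf Tb ≠ ⊥ := fun e => hUV.1.not_ge fun u hu => by
      rw [subgroupOf_eq_bot, disjoint_iff, inf_eq_left.2 hUT, Subgroup.map_eq_bot_iff,
        QuotientGroup.ker_mk'] at e
      exact e hu
    haveI : ((U.map τ).subgroupOf Tb).Normal := inferInstance
    have hTb : IsPGroup p Tb := T.2.map τ
    obtain ⟨⟨z, hz⟩, ⟨hzU, hzc⟩, hz1⟩ := SetLike.exists_of_lt
      (bot_lt_iff_ne_bot.2 (CfsgLib.PGroup.inf_center_ne_bot (G := Tb) hTb _ hUb))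
    obtain ⟨u, hu, rfl⟩ := hzU
    have hfixT : ∀ t ∈ (T : Subgroup Γ), τ t * τ u = τ u * τ t := fun t ht =>
      congrArg Subtype.val (mem_center_iff.1 hzc ⟨τ t, mem_map_of_mem _ ht⟩)
    have hfix : ∀ x : Γ, τ x * τ u = τ u * τ x := by
      intro x
      have hx : x ∈ (centralizer ({τ u} : Set (Γ ⧸ V))).comap τ := by
        refine (top_le_iff.2 rfl |>.trans (htop.ge.trans (sup_le (fun t ht => ?_) fun c hc => ?_)))
          (mem_top x)
        · exact mem_centralizer_singleton_iff.2 (hfixT t ht)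
        · refine mem_centralizer_singleton_iff.2 (commutatorElement_eq_one_iff_mul_comm.1 ?_)
          rw [← map_commutatorElement]
          exact (QuotientGroup.eq_one_iff _).2 ((hρ c).1 hc u hu)
      exact mem_centralizer_singleton_iff.1 hx
    have hZn : ((zpowers (τ u)).comap τ).Normal := by
      refine Normal.comap ⟨fun y hy x => ?_⟩ τ
      obtain ⟨x, rfl⟩ := hτ x
      obtain ⟨n, rfl⟩ := mem_zpowers_iff.1 hy
      rw [((show Commute (τ x) (τ u) from hfix x).zpow_right n).eq, mul_inv_cancel_right]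
      exact zpow_mem (mem_zpowers _) n
    have hVZ : V ≤ (zpowers (τ u)).comap τ := fun v hv => by
      rw [mem_comap, show τ v = 1 from (QuotientGroup.eq_one_iff v).2 hv]
      exact one_mem _
    rcases hUV.2.2.2 ((zpowers (τ u)).comap τ ⊓ U) inferInstance
      (le_inf hVZ hUV.1.le) inf_le_right with h | h
    · exact hz1 (by
        have : u ∈ V := h.le ⟨mem_zpowers (τ u), hu⟩
        exact mem_bot.2 (Subtype.ext ((QuotientGroup.eq_one_iff u).2 this)))
    · refine hne ((commutator_le).2 fun v hv w hw => ?_)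
      obtain ⟨n, hn⟩ := mem_zpowers_iff.1 (h.ge hv).1
      refine (QuotientGroup.eq_one_iff _).1 ?_
      show τ ⁅v, w⁆ = 1
      rw [map_commutatorElement, commutatorElement_eq_one_iff_mul_comm, ← hn]
      exact ((show Commute (τ w) (τ u) from hfix w).zpow_right n).symm
  have hCeq : C = P := le_antisymm hCP hPC
  obtain ⟨K, hKn, hPK, hKc, hKab, -, hKT⟩ := hT.middle
  -- the norm vanishes
  have hnorm : ∑ i ∈ Finset.range p, ((ρ g : (AddMonoid.End (Additive Vq))ˣ) :
      AddMonoid.End (Additive Vq)) ^ i = 0 := by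
    refine DFunLike.ext _ _ fun z => ?_
    obtain ⟨u, hu⟩ := QuotientGroup.mk'_surjective _ (Additive.toMul z)
    have h := GoodTransfer.prod_conj_mem hUV hUp hdeg π
      (fun n hn => (QuotientGroup.eq_one_iff n).2 hn) u
    refine (AddMonoidHom.finsetSum_apply (M := Additive Vq) (N := Additive Vq) _ _ _).trans ?_
    refine Additive.toMul.injective ?_
    rw [toMul_sum]
    refine Eq.trans (Finset.prod_congr rfl fun i _ => ?_) h
    rw [← Units.val_pow_eq_pow_val, ← map_pow]
    show σ (g ^ i) (Additive.toMul z) = _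
    rw [← hu, hσ]
    exact congrArg π (Subtype.ext (MulAut.conjNormal_apply _ _))
  have hpR : (p : AddMonoid.End (Additive Vq)) = 0 := by
    refine DFunLike.ext _ _ fun z => ?_
    obtain ⟨u, hu⟩ := QuotientGroup.mk'_surjective _ (Additive.toMul z)
    rw [AddMonoid.End.natCast_apply]
    refine Additive.toMul.injective ?_
    show (Additive.toMul z) ^ p = 1
    rw [← hu, ← map_pow]
    exact (QuotientGroup.eq_one_iff _).2 (GoodTransfer.chief_pow_mem hUV hUp u u.2)
  haveI : Finite (K.map ρ) := Finite.of_surjective _ (ρ.subgroupMap_surjective K)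
  have hKab' : ∀ a ∈ K.map ρ, ∀ b ∈ K.map ρ, a * b = b * a := by
    rintro _ ⟨a, ha, rfl⟩ _ ⟨b, hb, rfl⟩
    rw [← commutatorElement_eq_one_iff_mul_comm, ← map_commutatorElement]
    exact hPC (hKab (commutator_mem_commutator ha hb))
  have hKcard : (Nat.card (K.map ρ)).Coprime p := by
    rw [← relIndex_bot_left, ← Subgroup.map_bot ρ, relIndex_map_map, bot_sup_eq, ← hC, hCeq,
      sup_eq_left.2 hPK]
    exact hKc
  have hcommK := commute_of_norm_zero hpR (ρ g) hnorm (K.map ρ) hKab' hKcard (by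
    rintro _ ⟨a, ha, rfl⟩
    rw [← map_inv, ← map_mul, ← map_mul]
    exact mem_map_of_mem ρ (hKn.conj_mem a ha g))
  -- `g` generates with `P` a normal `p`-subgroup
  let T1 : Subgroup Γ := (T : Subgroup Γ) ⊓ (centralizer ((K.map ρ : Subgroup _) : Set _)).comap ρ
  have hg1 : g ∈ T1 := ⟨hgT, mem_centralizer_iff.2 fun a ha => (hcommK a ha).symm⟩
  have hPT1 : P ≤ T1 := le_inf (CfsgLib.Cores.pCore_le_sylow T) fun x hx => by
    rw [mem_comap, show ρ x = 1 from hPC hx]
    exact one_mem _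
  have hT1n : ∀ x : Γ, ∀ t ∈ T1, x * t * x⁻¹ ∈ T1 := by
    intro x
    have hx : x ∈ K ⊔ (T : Subgroup Γ) := hKT ▸ mem_top x
    haveI := hKn
    obtain ⟨k, hk, s, hs, rfl⟩ := mem_sup_of_normal_left.1 hx
    intro t ht
    have h1 : s * t * s⁻¹ ∈ T1 := by
      refine ⟨(T : Subgroup Γ).mul_mem ((T : Subgroup Γ).mul_mem hs ht.1) ((T : Subgroup Γ).inv_mem hs),
        mem_centralizer_iff.2 ?_⟩
      rintro _ ⟨a, ha, rfl⟩
      have h2 : ρ (s⁻¹ * a * s) * ρ t = ρ t * ρ (s⁻¹ * a * s) :=
        mem_centralizer_iff.1 ht.2 _ (mem_map_of_mem ρ (by simpa using hKn.conj_mem a ha s⁻¹))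
      rw [← map_mul, ← map_mul, show a * (s * t * s⁻¹) = s * ((s⁻¹ * a * s) * t) * s⁻¹ by group,
        show s * t * s⁻¹ * a = s * (t * (s⁻¹ * a * s)) * s⁻¹ by group, map_mul ρ _ s⁻¹,
        map_mul ρ _ s⁻¹, map_mul ρ s, map_mul ρ s, map_mul, map_mul ρ t, h2]
    have h3 : k * (s * t * s⁻¹) * k⁻¹ * (s * t * s⁻¹)⁻¹ ∈ P := by
      refine hCP ?_
      have h4 := mem_centralizer_iff.1 h1.2 (ρ k) (mem_map_of_mem ρ hk)
      show ρ _ = 1
      rw [map_mul, map_mul, map_mul, h4, map_inv, mul_inv_cancel_right, map_inv, mul_inv_cancel]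
    have := T1.mul_mem (hPT1 h3) h1
    rw [inv_mul_cancel_right] at this
    rwa [show k * s * t * (k * s)⁻¹ = k * (s * t * s⁻¹) * k⁻¹ by group]
  haveI : T1.Normal := ⟨fun t ht x => hT1n x t ht⟩
  exact hgP (CfsgLib.Cores.le_pCore (T.2.to_le inf_le_left) hg1)

end CfsgLib.Techniques.Complement
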