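import Cfsg.Agent.Lib.PStab.Reduction
import Cfsg.Agent.Lib.Techniques.Functor.Induced

/-!
Groups with a series `p`-group, abelian `p'`-group, `p`-group: all their sections are `p`-stable.
-/

namespace CfsgLib.Techniques.Complement

open Subgroup Cfsg CfsgLib.Techniques.Functor

universe u

variable {p : ℕ} [hp : Fact p.Prime]

/-- A series `p`-group, abelian `p'`-group, `p`-group. -/
def Series (p : ℕ) (Γ : Type u) [Group Γ] : Prop :=
  ∃ N K : Subgroup Γ, N.Normal ∧ K.Normal ∧ N ≤ K ∧ IsPGroup p N ∧ (N.relIndex K).Coprime p ∧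
    ⁅K, K⁆ ≤ N ∧ ∃ k, K.index = p ^ k

theorem Series.subgroup {Γ : Type u} [Group Γ] [Finite Γ] (h : Series p Γ) (H : Subgroup Γ) :
    Series p ↥H := by
  obtain ⟨N, K, hN, hK, hNK, hNp, hcop, hab, k, hk⟩ := h
  haveI := hN
  haveI := hK
  refine ⟨N.subgroupOf H, K.subgroupOf H, inferInstance, inferInstance, comap_mono hNK,
    hNp.comap_subtype, Nat.Coprime.coprime_dvd_left (CfsgLib.PStab.relIndex_subgroupOf_dvd N K H) hcop,
    ?_, ?_⟩
  · rw [commutator_le]
    intro x hx y hy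
    exact hab (commutator_mem_commutator hx hy)
  · obtain ⟨i, -, hi⟩ := (Nat.dvd_prime_pow hp.out).1 (hk ▸ relIndex_dvd_index_of_normal K H)
    exact ⟨i, hi⟩

theorem Series.map {Γ Δ : Type u} [Group Γ] [Group Δ] [Finite Γ] (h : Series p Γ) (f : Γ →* Δ)
    (hf : Function.Surjective f) : Series p Δ := by
  obtain ⟨N, K, hN, hK, hNK, hNp, hcop, hab, k, hk⟩ := h
  haveI := hN
  refine ⟨N.map f, K.map f, hN.map f hf, hK.map f hf, map_mono hNK, hNp.map f,
    Nat.Coprime.coprime_dvd_left (CfsgLib.Transfer.relIndex_map_dvd hNK f) hcop,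
    (map_commutator K K f).ge.trans (map_mono hab), ?_⟩
  obtain ⟨i, -, hi⟩ := (Nat.dvd_prime_pow hp.out).1 (hk ▸ index_map_dvd K hf)
  exact ⟨i, hi⟩

theorem Series.of_isSect {Γ Δ : Type u} [Group Γ] [Group Δ] [Finite Γ] (h : Series p Γ)
    (hΔ : IsSect Δ Γ) : Series p Δ := by
  obtain ⟨K, f, hf⟩ := hΔ
  exact (h.subgroup K).map f hf

theorem Series.isNormalizerPStable {Γ : Type u} [Group Γ] [Finite Γ] (hp2 : p ≠ 2) (h : Series p Γ) :
    IsNormalizerPStable p Γ := by
  obtain ⟨N, K, hN, hK, -, hNp, hcop, hab, hk⟩ := h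
  haveI := hN
  haveI := hK
  intro P hP g hg hq
  exact CfsgLib.PStab.mk_mem_pCore_of_inCoreAct hg
    (CfsgLib.PStab.stableAll_of_series hp2 N K hNp hcop hab hk P hP g hg
      ((CfsgLib.PStab.isQuad_iff hg).2 hq))

theorem Series.sections {Γ : Type u} [Group Γ] [Finite Γ] (hp2 : p ≠ 2) (h : Series p Γ)
    (K R : Subgroup Γ) [(R.subgroupOf K).Normal] :
    IsNormalizerPStable p (↥K ⧸ R.subgroupOf K) :=
  ((h.subgroup K).map (QuotientGroup.mk' (R.subgroupOf K))
    (QuotientGroup.mk'_surjective _)).isNormalizerPStable hp2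

end CfsgLib.Techniques.Complement
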